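import Groth.Agent.Lib.Helper18.PDiff.Witt
import Groth.Prelude.Def_W4bk4bump814p2PDiff

set_option autoImplicit false
universe u v

namespace Groth.Agent.Lib.Helper18.PDiff

open MvPolynomial Finset W4bk4bump814p2

section Chain
variable {K : Type u} {A : Type v} [CommRing K] [CommRing A] [Algebra K A]
  {M : Type*} [AddCommGroup M] [Module A M] [Module K M] [IsScalarTower K A M]

/-- Chain rule for a derivation and an integer polynomial. -/
theorem derivation_aeval {σ : Type*} [Fintype σ] (D : Derivation K A M) (f : σ → A)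
    (s : MvPolynomial σ ℤ) :
    D (aeval f s) = ∑ b, aeval f (pderiv b s) • D (f b) := by
  classical
  induction s using MvPolynomial.induction_on with
  | C z =>
    simp only [pderiv_C, map_zero, zero_smul, Finset.sum_const_zero]
    rw [MvPolynomial.aeval_C]
    simp
  | add s t hs ht =>
    simp only [map_add, hs, ht, add_smul, Finset.sum_add_distrib]
  | mul_X s j hs =>
    rw [map_mul, aeval_X, Derivation.leibniz, hs, Finset.smul_sum]
    have : ∀ b, aeval f (pderiv b (s * X j)) • D (f b) =
        f j • (aeval f (pderiv b s) • D (f b)) + (aeval f s * aeval f (pderiv b (X j : MvPolynomial σ ℤ))) • D (f b) := by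
      intro b
      rw [Derivation.leibniz, smul_eq_mul, smul_eq_mul, map_add, map_mul, map_mul, aeval_X,
        add_smul, add_comm, mul_smul]
    simp only [this]
    rw [Finset.sum_add_distrib, add_comm]
    congr 1
    rw [Finset.sum_eq_single j]
    · rw [pderiv_X_self, map_one, mul_one]
    · intro b _ hb
      rw [pderiv_X_of_ne (Ne.symm hb), map_zero, mul_zero, zero_smul]
    · intro h; exact absurd (Finset.mem_univ j) h

end Chain

section Defect
variable (K : Type u) (A : Type v) [CommRing K] [CommRing A] [Algebra K A] (p : ℕ)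
  [hp : Fact p.Prime]

/-- The image of the Witt sum polynomial in `A`. -/
noncomputable def sA (x y : A) (i : ℕ) : A := aeval ![x, y] (sW p i)

theorem sA_zero (x y : A) : sA A p x y 0 = x + y := by
  simp [sA, sW_zero]

/-- The key identity: `∑_{i ≤ n} δ_{n-i}(s_i(x,y)) = δ_n(x) + δ_n(y)`. -/
theorem sum_delta_sA (n : ℕ) (x y : A) :
    ∑ i ∈ range (n + 1), delta K A p (n - i) (sA A p x y i) =
      delta K A p n x + delta K A p n y := by
  unfold delta sA
  have h1 : ∀ i ∈ range (n + 1),
      aeval ![x, y] (sW p i) ^ (p ^ (n - i) - 1) • KaehlerDifferential.D K A (aeval ![x, y] (sW p i)) =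
      ∑ b : Fin 2, aeval ![x, y] (sW p i ^ (p ^ (n - i) - 1) * pderiv b (sW p i)) •
        KaehlerDifferential.D K A (![x, y] b) := by
    intro i _
    rw [derivation_aeval, Finset.smul_sum]
    refine Finset.sum_congr rfl fun b _ => ?_
    rw [smul_smul, map_mul, map_pow]
  rw [Finset.sum_congr rfl h1, Finset.sum_comm]
  have h2 : ∀ b : Fin 2, ∑ i ∈ range (n + 1),
      aeval ![x, y] (sW p i ^ (p ^ (n - i) - 1) * pderiv b (sW p i)) •
        KaehlerDifferential.D K A (![x, y] b) =
      (![x, y] b) ^ (p ^ n - 1) • KaehlerDifferential.D K A (![x, y] b) := by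
    intro b
    rw [← Finset.sum_smul, ← map_sum, sW_pderiv, map_pow, aeval_X]
  rw [Finset.sum_congr rfl fun b _ => h2 b, Fin.sum_univ_two]
  rfl

end Defect

section Sigma
variable (K : Type u) (A : Type v) [Field K] [CommRing A] [Algebra K A] (p : ℕ)
  [hp : Fact p.Prime]

theorem delta_zero (i : ℕ) : delta K A p i 0 = 0 := by simp [delta]

theorem sum_delta_mem_sigma (n : ℕ) (z : ℕ → A) :
    ∑ j ∈ range n, delta K A p j (z j) ∈ sigma K A p n := by
  induction n with
  | zero => simp
  | succ n ih =>
    rw [mem_sigma_succ]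
    exact ⟨z n, by rw [sum_range_succ, add_sub_cancel_right]; exact ih⟩

theorem exists_of_mem_sigma (n : ℕ) (ω : Ω[A⁄K]) (h : ω ∈ sigma K A p n) :
    ∃ z : ℕ → A, ω = ∑ j ∈ range n, delta K A p j (z j) := by
  induction n generalizing ω with
  | zero => exact ⟨0, by simpa using h⟩
  | succ n ih =>
    obtain ⟨x, hx⟩ := (mem_sigma_succ K A p n ω).mp h
    obtain ⟨z, hz⟩ := ih _ hx
    refine ⟨fun j => if j = n then x else z j, ?_⟩
    rw [sum_range_succ]
    simp only [if_true]
    have : ∑ j ∈ range n, delta K A p j (if j = n then x else z j) =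
        ∑ j ∈ range n, delta K A p j (z j) :=
      sum_congr rfl fun j hj => by rw [if_neg (ne_of_lt (mem_range.mp hj))]
    rw [this, ← hz]; abel

theorem mem_sigma_iff (n : ℕ) (ω : Ω[A⁄K]) :
    ω ∈ sigma K A p n ↔ ∃ z : ℕ → A, ω = ∑ j ∈ range n, delta K A p j (z j) :=
  ⟨exists_of_mem_sigma K A p n ω, fun ⟨z, hz⟩ => hz ▸ sum_delta_mem_sigma K A p n z⟩

variable [CharP K p]

include K in
theorem natCast_p_eq_zero : (p : A) = 0 := by
  have h1 : (p : K) = 0 := CharP.cast_eq_zero K p
  rw [← map_natCast (algebraMap K A), h1, map_zero]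

theorem delta_neg (i : ℕ) (x : A) : delta K A p i (-x) = -delta K A p i x := by
  unfold delta
  have h1 : (-1 : A) ^ (p ^ i - 1) = 1 := by
    rcases hp.out.eq_two_or_odd' with h2 | hodd
    · have : (-1 : A) = 1 := by
        have h := natCast_p_eq_zero K A p
        rw [h2] at h
        have h' : (2 : A) = 0 := by exact_mod_cast h
        rw [neg_eq_iff_add_eq_zero]; rw [one_add_one_eq_two]; exact h'
      rw [this, one_pow]
    · have : Even (p ^ i - 1) := by
        have := hodd.pow (n := i)
        exact Nat.Odd.sub_odd this odd_one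
      exact this.neg_one_pow
  rw [map_neg, smul_neg, neg_pow, h1, one_mul]

/-- The additivity defect of `δ_i` lies in `Σ^i`. -/
theorem defect_mem_sigma (n : ℕ) (x y : A) :
    delta K A p n (x + y) - delta K A p n x - delta K A p n y ∈ sigma K A p n := by
  have h := sum_delta_sA K A p n x y
  rw [Finset.sum_range_succ', Nat.sub_zero, sA_zero] at h
  have h2 : delta K A p n (x + y) - delta K A p n x - delta K A p n y =
      -∑ i ∈ range n, delta K A p (n - (i + 1)) (sA A p x y (i + 1)) := by
    rw [sub_sub, ← h]; abel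
  rw [h2, ← Finset.sum_range_reflect, ← Finset.sum_neg_distrib]
  have h3 : ∀ j ∈ range n, -delta K A p (n - (n - 1 - j + 1)) (sA A p x y (n - 1 - j + 1)) =
      delta K A p j (-sA A p x y (n - j)) := by
    intro j hj
    have hj' := Finset.mem_range.mp hj
    have e1 : n - 1 - j + 1 = n - j := by omega
    have e2 : n - (n - j) = j := by omega
    rw [e1, e2, delta_neg]
  rw [Finset.sum_congr rfl h3]
  exact sum_delta_mem_sigma K A p n _

theorem neg_mem_sigma (n : ℕ) (ω : Ω[A⁄K]) (h : ω ∈ sigma K A p n) : -ω ∈ sigma K A p n := by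
  obtain ⟨z, rfl⟩ := exists_of_mem_sigma K A p n ω h
  rw [← Finset.sum_neg_distrib]
  have : ∀ j ∈ range n, -delta K A p j (z j) = delta K A p j (-z j) :=
    fun j _ => (delta_neg K A p j (z j)).symm
  rw [Finset.sum_congr rfl this]
  exact sum_delta_mem_sigma K A p n _

theorem zero_mem_sigma (n : ℕ) : (0 : Ω[A⁄K]) ∈ sigma K A p n := by
  have := sum_delta_mem_sigma K A p n (fun _ => 0)
  simpa [delta_zero] using this

theorem add_mem_sigma (n : ℕ) : ∀ (ω ω' : Ω[A⁄K]), ω ∈ sigma K A p n → ω' ∈ sigma K A p n →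
    ω + ω' ∈ sigma K A p n := by
  induction n with
  | zero =>
    intro ω ω' h h'
    simp only [sigma_zero, Set.mem_singleton_iff] at h h' ⊢
    rw [h, h', add_zero]
  | succ n ih =>
    intro ω ω' h h'
    obtain ⟨x, hx⟩ := (mem_sigma_succ K A p n ω).mp h
    obtain ⟨y, hy⟩ := (mem_sigma_succ K A p n ω').mp h'
    rw [mem_sigma_succ]
    refine ⟨x + y, ?_⟩
    have e : ω + ω' - delta K A p n (x + y) =
        ((ω - delta K A p n x) + (ω' - delta K A p n y)) +
          -(delta K A p n (x + y) - delta K A p n x - delta K A p n y) := by abel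
    rw [e]
    exact ih _ _ (ih _ _ hx hy) (neg_mem_sigma K A p n _ (defect_mem_sigma K A p n x y))

theorem mem_sigma_mono (n : ℕ) (ω : Ω[A⁄K]) (h : ω ∈ sigma K A p n) : ω ∈ sigma K A p (n + 1) := by
  rw [mem_sigma_succ]
  exact ⟨0, by rw [delta_zero, sub_zero]; exact h⟩

theorem delta_mem_sigma (n j : ℕ) (hj : j < n) (x : A) : delta K A p j x ∈ sigma K A p n := by
  have := sum_delta_mem_sigma K A p n (fun j' => if j' = j then x else 0)
  rw [Finset.sum_eq_single j] at this
  · simpa using this
  · intro b _ hb; rw [if_neg hb, delta_zero]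
  · intro h; exact absurd (Finset.mem_range.mpr hj) h

theorem smul_mem_sigma [PerfectField K] (n : ℕ) (c : K) (ω : Ω[A⁄K]) (h : ω ∈ sigma K A p n) :
    c • ω ∈ sigma K A p n := by
  obtain ⟨z, rfl⟩ := exists_of_mem_sigma K A p n ω h
  rw [Finset.smul_sum]
  haveI : ExpChar K p := ExpChar.prime hp.out
  haveI : PerfectRing K p := PerfectField.toPerfectRing p
  have : ∀ j ∈ range n, c • delta K A p j (z j) =
      delta K A p j (algebraMap K A ((iterateFrobeniusEquiv K p j).symm c) * z j) := by
    intro j _
    unfold delta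
    set b := (iterateFrobeniusEquiv K p j).symm c with hb
    have hbc : b ^ p ^ j = c := by
      have := (iterateFrobeniusEquiv K p j).apply_symm_apply c
      rwa [iterateFrobeniusEquiv_def] at this
    have hD : KaehlerDifferential.D K A (algebraMap K A b * z j) =
        algebraMap K A b • KaehlerDifferential.D K A (z j) := by
      rw [Derivation.leibniz, Derivation.map_algebraMap, smul_zero, add_zero]
    rw [hD, smul_smul, mul_pow, mul_right_comm, ← pow_succ, Nat.sub_add_cancel
      (Nat.one_le_pow _ _ hp.out.pos), ← map_pow, hbc, mul_smul, algebraMap_smul]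
  rw [Finset.sum_congr rfl this]
  exact sum_delta_mem_sigma K A p n _

end Sigma

end Groth.Agent.Lib.Helper18.PDiff
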