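import Mathlib

set_option autoImplicit false
universe u v

namespace Groth.Agent.Lib.Helper18.PDiff

open MvPolynomial Finset

section Witt
variable (p : ℕ) [hp : Fact p.Prime]

/-- The specialisation point `(x, 0, 0, …), (y, 0, 0, …)`. -/
noncomputable def pt : Fin 2 × ℕ → MvPolynomial (Fin 2) ℤ :=
  fun bi => if bi.2 = 0 then X bi.1 else 0

/-- The Witt components of `[x] + [y]`. -/
noncomputable def sW (i : ℕ) : MvPolynomial (Fin 2) ℤ :=
  aeval pt (wittStructureInt p (X 0 + X 1 : MvPolynomial (Fin 2) ℤ) i)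

theorem sW_sum (n : ℕ) :
    ∑ i ∈ range (n + 1), (p : MvPolynomial (Fin 2) ℤ) ^ i * sW p i ^ p ^ (n - i) =
      X 0 ^ p ^ n + X 1 ^ p ^ n := by
  have h := congrArg (aeval pt) (wittStructureInt_prop p (X 0 + X 1 : MvPolynomial (Fin 2) ℤ) n)
  rw [aeval_bind₁, aeval_wittPolynomial] at h
  rw [map_add, bind₁_X_right, bind₁_X_right, map_add, aeval_rename, aeval_rename,
    aeval_wittPolynomial, aeval_wittPolynomial] at h
  have e : ∀ b : Fin 2, ∑ i ∈ range (n + 1),
      (p : MvPolynomial (Fin 2) ℤ) ^ i * (pt ∘ Prod.mk b) i ^ p ^ (n - i) = X b ^ p ^ n := by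
    intro b
    rw [Finset.sum_eq_single 0]
    · simp [pt]
    · intro i _ hi
      have : (pt ∘ Prod.mk b) i = 0 := by simp [pt, hi]
      rw [this, zero_pow (pow_ne_zero _ hp.out.ne_zero), mul_zero]
    · intro h0; exact absurd (Finset.mem_range.mpr (Nat.succ_pos n)) h0
  rw [e 0, e 1] at h
  exact h

theorem sW_zero : sW p 0 = X 0 + X 1 := by
  have := sW_sum p 0
  simpa using this

theorem sW_pderiv (n : ℕ) (b : Fin 2) :
    ∑ i ∈ range (n + 1), sW p i ^ (p ^ (n - i) - 1) * pderiv b (sW p i) = X b ^ (p ^ n - 1) := by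
  have h := congrArg (pderiv b) (sW_sum p n)
  rw [map_sum] at h
  have hL : ∀ i ∈ range (n + 1), pderiv b ((p : MvPolynomial (Fin 2) ℤ) ^ i * sW p i ^ p ^ (n - i)) =
      (p : MvPolynomial (Fin 2) ℤ) ^ n * (sW p i ^ (p ^ (n - i) - 1) * pderiv b (sW p i)) := by
    intro i hi
    have hi' : i ≤ n := Nat.lt_succ_iff.mp (Finset.mem_range.mp hi)
    have hc : pderiv b ((p : MvPolynomial (Fin 2) ℤ) ^ i) = 0 := by
      have : ((p : MvPolynomial (Fin 2) ℤ) ^ i) = C ((p : ℤ) ^ i) := by simp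
      rw [this, pderiv_C]
    rw [Derivation.leibniz, hc, smul_zero, add_zero, Derivation.leibniz_pow, smul_eq_mul,
      nsmul_eq_mul, smul_eq_mul]
    have : (p : MvPolynomial (Fin 2) ℤ) ^ n = (p : MvPolynomial (Fin 2) ℤ) ^ i *
        ((p ^ (n - i) : ℕ) : MvPolynomial (Fin 2) ℤ) := by
      rw [Nat.cast_pow, ← pow_add, Nat.add_sub_cancel' hi']
    rw [this]; ring
  rw [Finset.sum_congr rfl hL, ← Finset.mul_sum] at h
  have hR : pderiv b (X 0 ^ p ^ n + X 1 ^ p ^ n : MvPolynomial (Fin 2) ℤ) =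
      (p : MvPolynomial (Fin 2) ℤ) ^ n * X b ^ (p ^ n - 1) := by
    rw [map_add, Derivation.leibniz_pow, Derivation.leibniz_pow, pderiv_X, pderiv_X]
    fin_cases b <;> simp
  rw [hR] at h
  have hpn : (p : MvPolynomial (Fin 2) ℤ) ^ n ≠ 0 := by
    apply pow_ne_zero
    exact_mod_cast hp.out.ne_zero
  exact mul_left_cancel₀ hpn h

end Witt

end Groth.Agent.Lib.Helper18.PDiff
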